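import Groth.Prelude.Def_EssEt
import Groth.Agent.S16430
import Groth.Agent.HenselLib.FiniteDecomp
import Groth.Agent.PairHensLib.Api
import Mathlib.RingTheory.Unramified.LocalRing
import Mathlib.RingTheory.Nakayama

/-! Essentially étale algebras over henselian local rings. -/

set_option autoImplicit false
set_option linter.style.haveILetI false
universe u

open TensorProduct IsLocalRing

namespace EssEtCompleteLib

variable {A : Type u} [CommRing A] [HenselianLocalRing A]

/-- The local ring of a finite algebra over a henselian local ring at a maximal ideal is a quotient. -/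
theorem surjective_atPrime {F : Type u} [CommRing F] [Algebra A F] [Module.Finite A F] (Q : Ideal F) [hQ : Q.IsMaximal] :
    Function.Surjective (algebraMap F (Localization.AtPrime Q)) := by
  classical
  obtain ⟨ι, _, L, _, hL, ⟨ε⟩⟩ := HenselLib.exists_pi_local (R := A) F
  let d : ι → F := fun i => ε.symm (Pi.single i 1)
  obtain ⟨i, hi⟩ : ∃ i, d i ∉ Q := by
    by_contra! h
    refine hQ.ne_top ((Ideal.eq_top_iff_one _).2 ?_)
    have : (∑ i, d i) = 1 := by
      simp only [d]
      rw [← map_sum, Finset.univ_sum_single (fun i => (1 : L i))]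
      exact map_one ε.symm
    rw [← this]
    exact Ideal.sum_mem _ fun i _ => h i
  let π : F →+* L i := (Pi.evalRingHom L i).comp ε.toRingHom
  have hπs : Function.Surjective π := fun y => ⟨ε.symm (Pi.single i y), by simp [π]⟩
  have hd : ∀ x : F, π x = 0 → d i * x = 0 := fun x hx => by
    refine ε.injective ?_
    ext j
    by_cases h : j = i
    · subst h; simpa [d, π] using hx
    · simp [d, Pi.single_eq_of_ne h]
  haveI := hL i
  have hker : RingHom.ker π ≤ Q := fun x hx => by
    have h1 := hd x hx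
    exact (hQ.isPrime.mem_or_mem (h1 ▸ zero_mem Q : d i * x ∈ Q)).resolve_left hi
  have hdu : IsUnit (algebraMap F (Localization.AtPrime Q) (d i)) := IsLocalization.map_units _ (⟨d i, hi⟩ : Q.primeCompl)
  intro z
  obtain ⟨x, ⟨s, hs⟩, rfl⟩ := IsLocalization.exists_mk'_eq Q.primeCompl z
  have hsu : IsUnit (π s) := by
    by_contra h
    have hmax : (Q.map π).IsMaximal := (Ideal.map_eq_top_or_isMaximal_of_surjective π hπs hQ).resolve_left fun h => by
      have h2 := Ideal.comap_map_of_surjective π hπs Q
      rw [h, Ideal.comap_top, ← RingHom.ker_eq_comap_bot, sup_eq_left.2 hker] at h2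
      exact hQ.ne_top h2.symm
    have h3 : π s ∈ Q.map π := by rw [IsLocalRing.eq_maximalIdeal hmax]; exact h
    rw [← Ideal.mem_comap, Ideal.comap_map_of_surjective π hπs, ← RingHom.ker_eq_comap_bot, sup_eq_left.2 hker] at h3
    exact hs h3
  obtain ⟨t, ht⟩ := hπs (↑hsu.unit⁻¹ : L i)
  refine ⟨x * t, hdu.mul_left_cancel ?_⟩
  have h5 : d i * (x * t * s - x) = 0 := hd _ (by rw [map_sub, map_mul, map_mul, ht, mul_assoc, IsUnit.val_inv_mul, mul_one, sub_self])
  have h6 := congrArg (algebraMap F (Localization.AtPrime Q)) h5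
  rw [map_zero, map_mul, map_sub, map_mul] at h6
  have h7 := hdu.mul_right_eq_zero.1 h6
  congr 1
  rw [IsLocalization.eq_mk'_iff_mul_eq]
  exact sub_eq_zero.1 h7

/-- An étale algebra localised over the closed point is finite. -/
theorem finite_atPrime {C : Type u} [CommRing C] [Algebra A C] [Algebra.Etale A C] (q : Ideal C) [q.IsPrime]
    (hq : q.comap (algebraMap A C) = maximalIdeal A) : Module.Finite A (Localization.AtPrime q) := by
  obtain ⟨e, he, hfin, hnq⟩ := HenselLib.exists_idem_quasiFinite (A := A) (B := C)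
  have heq : e ∉ q := fun h => by
    have hle : Ideal.span {e} ≤ q := (Ideal.span_singleton_le_iff_mem _).2 h
    haveI := Ideal.map_isPrime_of_surjective (f := Ideal.Quotient.mk (Ideal.span {e})) Ideal.Quotient.mk_surjective
      (by rw [Ideal.mk_ker]; exact hle) (I := q)
    refine hnq (q.map (Ideal.Quotient.mk (Ideal.span {e}))) ⟨?_⟩ inferInstance
    rw [Ideal.under, IsScalarTower.algebraMap_eq A C (C ⧸ _), ← Ideal.comap_comap, Ideal.Quotient.algebraMap_eq,
      Ideal.comap_map_of_surjective _ Ideal.Quotient.mk_surjective, ← RingHom.ker_eq_comap_bot, Ideal.mk_ker,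
      sup_eq_left.2 hle, hq]
  have h1e : 1 - e ∈ q := (Ideal.IsPrime.mem_or_mem ‹_› (by rw [mul_sub, mul_one, he.eq, sub_self]; exact zero_mem q : e * (1 - e) ∈ q)).resolve_left heq
  let F := C ⧸ Ideal.span {1 - e}
  haveI : Module.Finite A F := hfin
  have hle : Ideal.span {1 - e} ≤ q := (Ideal.span_singleton_le_iff_mem _).2 h1e
  let Q := q.map (Ideal.Quotient.mk (Ideal.span {1 - e}))
  have hQc : Q.comap (Ideal.Quotient.mk (Ideal.span {1 - e})) = q := by
    rw [Ideal.comap_map_of_surjective _ Ideal.Quotient.mk_surjective, ← RingHom.ker_eq_comap_bot, Ideal.mk_ker,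
      sup_eq_left.2 hle]
  haveI : Q.IsPrime := Ideal.map_isPrime_of_surjective Ideal.Quotient.mk_surjective (by rw [Ideal.mk_ker]; exact hle)
  haveI : Q.IsMaximal := Ideal.isMaximal_of_isIntegral_of_isMaximal_comap Q (by
    rw [IsScalarTower.algebraMap_eq A C F, ← Ideal.comap_comap, Ideal.Quotient.algebraMap_eq, hQc, hq]
    exact IsLocalRing.maximalIdeal.isMaximal A)
  haveI : Module.Finite A (Localization.AtPrime Q) :=
    Module.Finite.of_surjective ((IsScalarTower.toAlgHom A F (Localization.AtPrime Q)).toLinearMap) (surjective_atPrime (A := A) Q)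
  let fC : C →ₐ[A] Localization.AtPrime Q :=
    (IsScalarTower.toAlgHom A F (Localization.AtPrime Q)).comp (Ideal.Quotient.mkₐ A (Ideal.span {1 - e}))
  have hu : ∀ y : q.primeCompl, IsUnit (fC (y : C)) :=
    fun y => IsLocalization.map_units (Localization.AtPrime Q) (⟨Ideal.Quotient.mk _ y, fun h => y.2 (hQc.le h)⟩ : Q.primeCompl)
  let η : Localization.AtPrime q →ₐ[A] Localization.AtPrime Q := IsLocalization.liftAlgHom hu
  have hη : Function.Injective η := by
    refine (injective_iff_map_eq_zero η).2 fun z hz => ?_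
    obtain ⟨x, s, rfl⟩ := IsLocalization.exists_mk'_eq q.primeCompl z
    rw [IsLocalization.coe_liftAlgHom, IsLocalization.lift_mk', Units.mul_left_eq_zero] at hz
    obtain ⟨⟨t, ht⟩, htx⟩ := (IsLocalization.map_eq_zero_iff Q.primeCompl _ _).1 hz
    obtain ⟨t, rfl⟩ := Ideal.Quotient.mk_surjective t
    have htx' : Ideal.Quotient.mk (Ideal.span {1 - e}) (t * x) = 0 := by rw [map_mul]; exact htx
    obtain ⟨c, hc⟩ := Ideal.mem_span_singleton.1 (Ideal.Quotient.eq_zero_iff_mem.1 htx')
    refine (IsLocalization.mk'_eq_zero_iff _ _).2 ⟨⟨e * t, q.primeCompl.mul_mem heq (fun h => ht (Ideal.mem_map_of_mem _ h))⟩, ?_⟩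
    show e * t * x = 0
    rw [mul_assoc, hc, ← mul_assoc, mul_sub, mul_one, he.eq, sub_self, zero_mul]
  refine Module.Finite.of_surjective (M := Localization.AtPrime Q) (((AlgEquiv.ofBijective η ⟨hη, ?_⟩).symm).toLinearMap) (AlgEquiv.surjective _)
  intro z
  obtain ⟨f, rfl⟩ := surjective_atPrime (A := A) Q z
  obtain ⟨c, rfl⟩ := Ideal.Quotient.mk_surjective f
  exact ⟨algebraMap C _ c, IsLocalization.lift_eq hu c⟩

variable {R : Type u} [CommRing R] [HenselianLocalRing R] [IsNoetherianRing R] [Algebra R A] [IsLocalHom (algebraMap R A)]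

theorem exists_finite_etale (hres : Function.Bijective (ResidueField.map (algebraMap R A)))
    {E : Type u} [CommRing E] [IsLocalRing E] [Algebra A E] [IsLocalHom (algebraMap A E)]
    (hE : EGA4loc.IsEssentiallyEtale A E) :
    ∃ (S : Type u) (_ : CommRing S) (_ : IsLocalRing S) (_ : Algebra R S),
      Module.Finite R S ∧ Algebra.Etale R S ∧ Nonempty (E ≃ₐ[A] A ⊗[R] S) := by
  obtain ⟨C, _, _, q, _, hC, hq, ⟨e⟩⟩ := hE
  haveI := hC
  haveI : Module.Finite A E := by
    haveI := finite_atPrime q hq
    exact Module.Finite.equiv e.symm.toLinearEquiv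
  haveI : Algebra.FormallyUnramified A (Localization.AtPrime q) := by
    haveI : Algebra.FormallyUnramified C (Localization.AtPrime q) := .of_isLocalization q.primeCompl
    exact .comp A C _
  haveI : Algebra.FormallyUnramified A E := .of_equiv e.symm
  let kR := ResidueField R
  let kA := ResidueField A
  let l := ResidueField E
  let θ : kR ≃+* kA := RingEquiv.ofBijective _ hres
  letI : Algebra kR l := ((algebraMap kA l).comp θ.toRingHom).toAlgebra
  have hcomm : RingHom.comp (algebraMap kA l) θ.toRingHom = RingHom.comp (RingHom.id l) (algebraMap kR l) := rfl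
  haveI : Module.Finite kR l := Module.Finite.of_equiv_equiv θ.symm (RingEquiv.refl l) (by
    ext x; show algebraMap kA l (θ (θ.symm x)) = _; rw [θ.apply_symm_apply]; rfl)
  haveI : Algebra.IsSeparable kR l := Algebra.IsSeparable.of_equiv_equiv θ.symm (RingEquiv.refl l) (by
    ext x; show algebraMap kA l (θ (θ.symm x)) = _; rw [θ.apply_symm_apply]; rfl)
  obtain ⟨S, _, _, _, _, hfS, heS, ⟨ι⟩⟩ := Groth.Agent.S16430.result R l
  refine ⟨S, inferInstance, inferInstance, inferInstance, hfS, heS, ?_⟩
  letI : Algebra R l := ((algebraMap A l).comp (algebraMap R A)).toAlgebra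
  haveI : IsScalarTower R A l := IsScalarTower.of_algebraMap_eq fun _ => rfl
  haveI : IsScalarTower R kR l := IsScalarTower.of_algebraMap_eq fun r => rfl
  let σS : S →ₐ[R] l :=
    { ι.toRingEquiv.toRingHom.comp (residue S) with
      commutes' := fun r => ι.commutes (residue R r) }
  let T := A ⊗[R] S
  let π : T →ₐ[A] l := Algebra.TensorProduct.lift (Algebra.ofId A l) σS fun _ _ => Commute.all _ _
  let mT := (maximalIdeal A).map (algebraMap A T)
  have hmod : ∀ t : T, ∃ s : S, t - 1 ⊗ₜ s ∈ mT := fun t => by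
    induction t using TensorProduct.induction_on with
    | zero => exact ⟨0, by simp⟩
    | add x y hx hy =>
      obtain ⟨sx, hx⟩ := hx
      obtain ⟨sy, hy⟩ := hy
      refine ⟨sx + sy, ?_⟩
      rw [tmul_add, add_sub_add_comm]
      exact add_mem hx hy
    | tmul a s =>
      obtain ⟨z, hz⟩ := hres.2 (residue A a)
      obtain ⟨r, rfl⟩ := residue_surjective z
      rw [ResidueField.map_residue] at hz
      refine ⟨r • s, ?_⟩
      rw [← smul_tmul, ← Algebra.algebraMap_eq_smul_one, ← sub_tmul,
        show (a - algebraMap R A r) ⊗ₜ[R] s = algebraMap A T (a - algebraMap R A r) * (1 ⊗ₜ s) by simp [T]]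
      refine Ideal.mul_mem_right _ _ (Ideal.mem_map_of_mem _ ?_)
      exact Ideal.Quotient.eq.1 hz.symm
  have hπ1 : ∀ s : S, π (1 ⊗ₜ s) = ι (residue S s) := fun s => by
    show Algebra.TensorProduct.lift _ _ _ (1 ⊗ₜ s) = _
    rw [Algebra.TensorProduct.lift_tmul, map_one, one_mul]
    rfl
  have hπs : Function.Surjective π := fun y => by
    obtain ⟨z, rfl⟩ := ι.surjective y
    obtain ⟨s, rfl⟩ := residue_surjective z
    exact ⟨1 ⊗ₜ s, hπ1 s⟩
  have hmle : mT ≤ RingHom.ker π := Ideal.map_le_iff_le_comap.2 fun a ha => by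
    show π (algebraMap A T a) = 0
    rw [π.commutes, IsScalarTower.algebraMap_apply A (ResidueField A) l, ResidueField.algebraMap_eq,
      (residue_eq_zero_iff a).2 ha, map_zero]
  have hker : RingHom.ker π = mT := by
    refine le_antisymm (fun t ht => ?_) hmle
    obtain ⟨s, hs⟩ := hmod t
    have h1 : π (1 ⊗ₜ s) = 0 := by
      have h2 : π (t - 1 ⊗ₜ s) = 0 := hmle hs
      rw [map_sub, RingHom.mem_ker.1 ht, zero_sub, neg_eq_zero] at h2
      exact h2
    rw [hπ1, map_eq_zero, residue_eq_zero_iff, ← Algebra.FormallyUnramified.map_maximalIdeal (R := R)] at h1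
    have h3 := Ideal.mem_map_of_mem (Algebra.TensorProduct.includeRight (R := R) (A := A)).toRingHom h1
    rw [Ideal.map_map] at h3
    have h4 : (Algebra.TensorProduct.includeRight (R := R) (A := A) (B := S)).toRingHom.comp (algebraMap R S) =
        (algebraMap A T).comp (algebraMap R A) := RingHom.ext fun r => by
      simp [T, Algebra.TensorProduct.tmul_one_eq_one_tmul]
    rw [h4, ← Ideal.map_map] at h3
    have h6 : (maximalIdeal R).map (algebraMap R A) ≤ maximalIdeal A :=
      Ideal.map_le_iff_le_comap.2 fun r hr => map_nonunit (algebraMap R A) r hr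
    have h5 : (1 : A) ⊗ₜ s ∈ mT := Ideal.map_mono h6 h3
    simpa using add_mem hs h5
  haveI : mT.IsMaximal := hker ▸ RingHom.ker_isMaximal_of_surjective π.toRingHom hπs
  haveI : IsLocalRing T := IsLocalRing.of_unique_max_ideal ⟨mT, ‹_›, fun M hM => (Ideal.IsMaximal.eq_of_le ‹mT.IsMaximal› hM.ne_top
    (Ideal.map_le_iff_le_comap.2 (IsLocalRing.eq_maximalIdeal (Ideal.isMaximal_comap_of_isIntegral_of_isMaximal M)).ge)).symm⟩
  haveI hHT : HenselianRing T mT := by
    haveI : HenselianRing A (maximalIdeal A) := inferInstance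
    exact HenselLib.henselianRing_map_of_isIntegral
  let eT : (T ⧸ mT) ≃ₐ[A] l := (Ideal.quotientEquivAlgOfEq A hker.symm).trans (Ideal.quotientKerAlgEquivOfSurjective hπs)
  let σC : C →ₐ[A] l := (IsScalarTower.toAlgHom A E l).comp ((e.symm.toAlgHom).comp (IsScalarTower.toAlgHom A C (Localization.AtPrime q)))
  obtain ⟨τ, hτ⟩ := PairHensLib.exists_algHom_lift (J := mT) (eT.symm.toAlgHom.comp σC)
  have hπτ : ∀ c, π (τ c) = σC c := fun c => by
    have h1 := congrArg eT (AlgHom.congr_fun hτ c)
    exact h1.trans (eT.apply_symm_apply _)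
  have hu : ∀ y : q.primeCompl, IsUnit (τ y) := fun y => by
    by_contra h
    have h1 : τ y ∈ mT := by rw [IsLocalRing.eq_maximalIdeal ‹mT.IsMaximal›]; exact h
    rw [← hker, RingHom.mem_ker] at h1
    change π (τ y) = 0 at h1
    rw [hπτ] at h1
    exact (residue_ne_zero_iff_isUnit _).2 ((IsLocalization.map_units (Localization.AtPrime q) y).map e.symm) h1
  let φ : E →ₐ[A] T := (IsLocalization.liftAlgHom hu).comp e.toAlgHom
  have hπφ : ∀ x, π (φ x) = residue E x := fun x => by
    obtain ⟨y, rfl⟩ := e.symm.surjective x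
    obtain ⟨c, s, rfl⟩ := IsLocalization.exists_mk'_eq q.primeCompl y
    have h0 : π.comp φ = IsScalarTower.toAlgHom A E l := by
      have h1 := IsLocalization.algHom_ext (A := C) (L := Localization.AtPrime q) q.primeCompl
        (f := π.comp (IsLocalization.liftAlgHom hu)) (g := (IsScalarTower.toAlgHom A E l).comp e.symm.toAlgHom) (AlgHom.ext fun c => by
          show π (IsLocalization.liftAlgHom hu (algebraMap C _ c)) = _
          rw [IsLocalization.coe_liftAlgHom, IsLocalization.lift_eq]
          exact hπτ c)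
      exact AlgHom.ext fun z => (AlgHom.congr_fun h1 (e z)).trans (by simp)
    exact AlgHom.congr_fun h0 _
  have hjac : maximalIdeal A ≤ Ideal.jacobson ⊥ := maximalIdeal_le_jacobson _
  have hsur : Function.Surjective φ := by
    refine LinearMap.range_eq_top.1 (top_le_iff.1 (Submodule.le_of_le_smul_of_le_jacobson_bot (N := LinearMap.range φ.toLinearMap)
      Module.Finite.fg_top hjac fun t _ => ?_ : _ ≤ LinearMap.range φ.toLinearMap))
    obtain ⟨x, hx⟩ := residue_surjective (π t)
    have h1 : t - φ x ∈ mT := by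
      rw [← hker, RingHom.mem_ker]
      show π (t - φ x) = 0
      rw [map_sub, hπφ, hx, sub_self]
    refine Submodule.mem_sup.2 ⟨φ x, ⟨x, rfl⟩, t - φ x, ?_, add_sub_cancel _ _⟩
    rw [Ideal.smul_top_eq_map]; exact h1
  haveI : Module.Free A T := Module.free_of_flat_of_isLocalRing
  obtain ⟨sec, hsec⟩ := Module.projective_lifting_property φ.toLinearMap LinearMap.id hsur
  have hinj : LinearMap.ker φ.toLinearMap = ⊥ := by
    let p : E →ₗ[A] E := LinearMap.id - sec ∘ₗ φ.toLinearMap
    have hp : LinearMap.ker φ.toLinearMap = LinearMap.range p := by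
      refine le_antisymm ?_ ?_
      · intro x hx
        refine ⟨x, ?_⟩
        show x - sec (φ.toLinearMap x) = x
        rw [LinearMap.mem_ker.1 hx, map_zero, sub_zero]
      · rintro _ ⟨x, rfl⟩
        show φ.toLinearMap (x - sec (φ.toLinearMap x)) = 0
        rw [map_sub, show φ.toLinearMap (sec (φ.toLinearMap x)) = φ.toLinearMap x from LinearMap.congr_fun hsec _, sub_self]
    refine Submodule.eq_bot_of_le_smul_of_le_jacobson_bot (maximalIdeal A) _ (by rw [hp, ← Submodule.map_top]; exact Module.Finite.fg_top.map p) ?_ hjac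
    intro x hx
    have hxm : x ∈ (maximalIdeal A) • (⊤ : Submodule A E) := by
      rw [Ideal.smul_top_eq_map, Submodule.restrictScalars_mem, Algebra.FormallyUnramified.map_maximalIdeal, ← residue_eq_zero_iff, ← hπφ]
      rw [show φ x = 0 from hx, map_zero]
    have hpx : p x = x := by
      show x - sec (φ.toLinearMap x) = x
      rw [LinearMap.mem_ker.1 hx, map_zero, sub_zero]
    rw [← hpx, hp, ← Submodule.map_top, ← Submodule.map_smul'']
    exact Submodule.mem_map_of_mem hxm
  exact ⟨AlgEquiv.ofBijective φ ⟨LinearMap.ker_eq_bot.1 hinj, hsur⟩⟩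

end EssEtCompleteLib
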